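import Cfsg.Agent.H888.L34.Model
import Cfsg.Agent.H437.L34.Carrier
import Cfsg.Agent.H544.L34.Types
import Cfsg.Agent.H5.L34.Norm
import Cfsg.Agent.H550.L34.Rel

/-!
# S5917: the situation in the frame (helper939)

* `UQ g1 g2 qi qj` : the explicit unitary matrices `gD`, `gP`, `gW`, `gJ` of helper550;
* `Fsit V H f z ζ g1 g2 qi qj` : the situation with the torus frame `z` of `(e1, e2)`, values `(V1, V)`;
* `FsitA` : type `A₂⁴` with the normal form of `Q₈` and of the Frobenius map.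
-/

set_option autoImplicit false
set_option linter.unusedSectionVars false
set_option maxRecDepth 100000

namespace Cfsg.Agent.H939.L34

open Matrix Cfsg Cfsg.Lie Cfsg.Lie.ChevalleyDatum
open Cfsg.Agent.Tits.Roots Cfsg.Agent.KFacts.RgdChevCoord Cfsg.Agent.BpExc.TorChev Cfsg.Agent.H129.TorusChar
open Cfsg.Agent.BpExc.TowChev Cfsg.Agent.BpExc.FamUntw
open Cfsg.Agent.BpExc.RowsUntw (e8T)

open Cfsg.Agent.H691.L34
open Cfsg.Agent.H939.L64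
open Cfsg.Agent.H437.L34 (fg rho)
open Cfsg.Agent.H888.L34.Model (Sit P3)
open Cfsg.Agent.H201.L34 (V1 V2 Fz)
open Cfsg.Agent.H550.L34 (Om gD gP gW gJ gZ gS)

variable {F : Type} [Field F]

/-- the explicit unitary matrices -/
def UQ (g1 g2 qi qj : G3 F) : Prop :=
  ∃ (ω : F) (h : Om ω), g1 = gD h ∧ g2 = gP h ∧ qi = gW h ∧ qj = gJ h

/-- the situation in the frame, `V = V2` (type A) or `V = V3` (type D) -/
structure Fsit (V : Fin 8 → ZMod 3) (H : Subgroup E2) (f : P3 F →* E2) (z : ↥(chevE8.group KK)) (ζ : KK)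
    (g1 g2 qi qj : G3 F) : Prop where
  sit : Sit H f
  uq : UQ g1 g2 qi qj
  prim : IsPrimitiveRoot ζ 3
  m1 : z⁻¹ * em (fg f g1) * z ∈ TT chevE8 KK
  m2 : z⁻¹ * em (fg f g2) * z ∈ TT chevE8 KK
  v1 : ∀ i, cX e8T (z⁻¹ * em (fg f g1) * z) (sr i) = ζ ^ (V1 i).val
  v2 : ∀ i, cX e8T (z⁻¹ * em (fg f g2) * z) (sr i) = ζ ^ (V i).val

/-- type `A₂⁴` -/
structure FsitA (H : Subgroup E2) (f : P3 F →* E2) (z : ↥(chevE8.group KK)) (ζ : KK) (g1 g2 qi qj : G3 F) : Prop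
    extends Fsit V2 H f z ζ g1 g2 qi qj where
  zi : z⁻¹ * em (fg f qi) * z = Cfsg.Agent.H201.L34.gi
  zj : z⁻¹ * em (fg f qj) * z = Cfsg.Agent.H201.L34.gj
  zm : z⁻¹ * Cfsg.Agent.H129.TorusUntw.phi chevE8 KK 2 1 z = Cfsg.Agent.H201.L34.gz

variable {V : Fin 8 → ZMod 3} {H : Subgroup E2} {f : P3 F →* E2} {z : ↥(chevE8.group KK)} {ζ : KK} {g1 g2 qi qj : G3 F}

/-- the relations in `E₈(2)` -/
theorem UQ.rel (U : UQ g1 g2 qi qj) (f : P3 F →* E2) :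
    fg f qi * fg f g1 * (fg f qi)⁻¹ = fg f g2 ∧ fg f qi * fg f g2 * (fg f qi)⁻¹ = (fg f g1)⁻¹ ∧
    fg f qj * fg f g1 * (fg f qj)⁻¹ = fg f g1 * fg f g2 ∧
    fg f qj * fg f g2 * (fg f qj)⁻¹ = fg f g1 * (fg f g2)⁻¹ ∧
    fg f qi ^ 4 = 1 ∧ fg f qj ^ 2 = fg f qi ^ 2 ∧ fg f qi * fg f qj * (fg f qi)⁻¹ = (fg f qj)⁻¹ ∧
    fg f g1 ^ 3 = 1 ∧ fg f g2 ^ 3 = 1 ∧ Commute (fg f g1) (fg f g2) := by
  obtain ⟨ω, h, rfl, rfl, rfl, rfl⟩ := U
  exact Cfsg.Agent.H550.L34.rels h (fg f) fun c hc => Cfsg.Agent.H437.L34.fg_center f hc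

/-- they are unitary -/
theorem UQ.un (U : UQ g1 g2 qi qj) : hact g1 (1 : M3 F) = 1 ∧ hact g2 (1 : M3 F) = 1 ∧ hact qi (1 : M3 F) = 1 ∧
    hact qj (1 : M3 F) = 1 := by
  obtain ⟨ω, h, rfl, rfl, rfl, rfl⟩ := U
  refine ⟨?_, ?_, ?_, ?_⟩
  · show Cfsg.Agent.H550.L34.mD ω * 1 * ct (Cfsg.Agent.H550.L34.mD ω) = 1
    rw [mul_one, Cfsg.Agent.H550.L34.DD h]
  · show Cfsg.Agent.H550.L34.mP * 1 * ct (Cfsg.Agent.H550.L34.mP) = 1
    rw [mul_one, Cfsg.Agent.H550.L34.PP h]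
  · show Cfsg.Agent.H550.L34.mW ω * 1 * ct (Cfsg.Agent.H550.L34.mW ω) = 1
    rw [mul_one, Cfsg.Agent.H550.L34.WW h]
  · show Cfsg.Agent.H550.L34.mJ ω * 1 * ct (Cfsg.Agent.H550.L34.mJ ω) = 1
    rw [mul_one, Cfsg.Agent.H550.L34.JJ h]

theorem not_comm {ω : F} (h : Om ω) : gP h * gD h ≠ gD h * gP h := by
  intro e
  rw [Cfsg.Agent.H550.L34.P_D] at e
  have e1 : gS h = 1 := by
    have := mul_eq_right.1 e
    exact this
  have e2 := congrArg (fun g : G3 F => g.1 0 0) e1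
  have e3 : ω = 1 := by
    have : (ω • (1 : M3 F)) 0 0 = (1 : M3 F) 0 0 := e2
    simpa using this
  exact Cfsg.Agent.H550.L34.om_ne h e3

/-- independence -/
theorem UQ.indep (U : UQ g1 g2 qi qj) (hf : Function.Injective f) : fg f g1 ≠ 1 ∧ ∀ i : ℕ, fg f g2 ≠ fg f g1 ^ i := by
  obtain ⟨ω, h, rfl, rfl, rfl, rfl⟩ := U
  constructor
  · intro e
    have h1 := Cfsg.Agent.H437.L34.fg_eq_one f hf e
    exact not_comm h (Subgroup.mem_center_iff.1 h1 _)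
  · intro i e
    have h1 : fg f (gP h * (gD h ^ i)⁻¹) = 1 := by rw [map_mul, map_inv, map_pow, ← e, mul_inv_cancel]
    have h2 := Cfsg.Agent.H437.L34.fg_eq_one f hf h1
    have h3 : gP h = (gP h * (gD h ^ i)⁻¹) * gD h ^ i := by group
    apply not_comm h
    rw [h3]
    have h4 := Subgroup.mem_center_iff.1 h2 (gD h)
    calc gP h * (gD h ^ i)⁻¹ * gD h ^ i * gD h = gP h * (gD h ^ i)⁻¹ * gD h * gD h ^ i := by
          rw [mul_assoc, ← pow_succ, pow_succ', ← mul_assoc]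
      _ = gD h * (gP h * (gD h ^ i)⁻¹) * gD h ^ i := by rw [h4]
      _ = _ := by group

theorem exists_uq [Fintype F] (hF : Fintype.card F = 4) : ∃ g1 g2 qi qj : G3 F, UQ g1 g2 qi qj := by
  obtain ⟨ω, h⟩ := Cfsg.Agent.H436.L34.exists_omega hF
  have h2 := Cfsg.Agent.H436.L34.two_eq_zero hF
  exact ⟨_, _, _, _, ω, ⟨h2, by linear_combination h - (ω + 1) * h2⟩, rfl, rfl, rfl, rfl⟩

end Cfsg.Agent.H939.L34
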