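import Cfsg.Agent.H939.L34.TypeA
import Cfsg.Agent.H939.L34.TypeD
import Cfsg.Agent.H968.L34.EndDC
import Cfsg.Agent.H968.L34.TrThree

/-!
# S5917: the assembly (helper939)
-/

set_option autoImplicit false
set_option linter.unusedSectionVars false
set_option maxRecDepth 100000

namespace Cfsg.Agent.H939.L34

open Matrix Cfsg Cfsg.Lie Cfsg.Lie.ChevalleyDatum
open Cfsg.Agent.H691.L34
open Cfsg.Agent.H939.L64
open Cfsg.Agent.H437.L34 (fg rho)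
open Cfsg.Agent.H888.L34.Model (Sit P3)
open Cfsg.Agent.H201.L34 (V1 V2 Fz)
open Cfsg.Agent.H251.L34 (V3)

variable {F : Type} [Field F] [Fintype F]

theorem cube_of {G : Type*} [Group G] {a b : G} (hc : Commute a b) (ha : a ^ 3 = 1) (hb : b ^ 3 = 1) (i j : ℕ) :
    (a ^ i * b ^ j) ^ 3 = 1 := by
  rw [(hc.pow_pow i j).mul_pow, ← pow_mul, ← pow_mul, mul_comm i 3, mul_comm j 3, pow_mul, pow_mul, ha, hb,
    one_pow, one_pow, one_mul]

theorem eig_fg (hF : Fintype.card F = 4) (f : P3 F →* E2) (hf : Function.Injective f) (y : G3 F)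
    (h3 : fg f y ^ 3 = 1) (h1 : fg f y ≠ 1) :
    Module.finrank KK (Cfsg.Agent.H943.RepAdd.eig rE (fg f y) 1) = 86 := by
  have e : fg f y = f (QuotientGroup.mk' (Subgroup.center (G3 F)) y) := rfl
  rw [e] at h3 h1 ⊢
  refine Cfsg.Agent.H259.L34.eig_three f hf (Cfsg.Agent.H20.LF.b34_psl hF) ?_ ?_
  · apply hf
    rw [map_pow, map_one]
    exact h3
  · intro h
    exact h1 (by rw [h, map_one])

theorem gen_cube {G : Type*} [Group G] (φ : G3 F →* G) (hφ : ∀ c ∈ Subgroup.center (G3 F), φ c = 1)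
    {g1 g2 qi qj : G3 F} (U : UQ g1 g2 qi qj) (i j : ℕ) : φ (g1 ^ i * g2 ^ j) ^ 3 = 1 := by
  obtain ⟨ω, h, rfl, rfl, rfl, rfl⟩ := U
  obtain ⟨i1, i2, j1, j2, i4, ji, ij, o1, o2, cc⟩ := Cfsg.Agent.H550.L34.rels h φ hφ
  rw [map_mul, map_pow, map_pow]
  exact cube_of cc o1 o2 i j

theorem fg_cube (f : P3 F →* E2) {g1 g2 qi qj : G3 F} (U : UQ g1 g2 qi qj) (i j : ℕ) : fg f (g1 ^ i * g2 ^ j) ^ 3 = 1 :=
  gen_cube (fg f) (fun _ hc => Cfsg.Agent.H437.L34.fg_center f hc) U i j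

theorem eig_ij (hF : Fintype.card F = 4) {H : Subgroup E2} {f : P3 F →* E2} (S : Sit H f) {g1 g2 qi qj : G3 F}
    (U : UQ g1 g2 qi qj) : ∀ i j : ℕ, fg f g1 ^ i * fg f g2 ^ j ≠ 1 →
      Module.finrank KK (Cfsg.Agent.H943.RepAdd.eig rE (fg f g1 ^ i * fg f g2 ^ j) 1) = 86 := by
  intro i j h
  have hpow : fg f (g1 ^ i * g2 ^ j) = fg f g1 ^ i * fg f g2 ^ j := by
    rw [map_mul, map_pow, map_pow]
  rw [← hpow] at h ⊢
  exact eig_fg hF f S.inj _ (fg_cube f U i j) h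

theorem types' (hF : Fintype.card F = 4) {H : Subgroup E2} {f : P3 F →* E2} (S : Sit H f) {g1 g2 qi qj : G3 F}
    (U : UQ g1 g2 qi qj) {ζ : KK} (hζ : IsPrimitiveRoot ζ 3) :
    Cfsg.Agent.H544.L34.PairZ (fg f g1) (fg f g2) V1 V2 ζ ∨ Cfsg.Agent.H544.L34.PairZ (fg f g1) (fg f g2) V1 V3 ζ := by
  have hd := eig_ij hF S U
  obtain ⟨i1, i2, j1, j2, i4, ji, ij, o1, o2, cc⟩ := U.rel f
  obtain ⟨n1, n2⟩ := U.indep S.inj
  exact Cfsg.Agent.H544.L34.types hζ o1 o2 cc hd n1 n2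

/-- type A: the frame -/
theorem exists_A {H : Subgroup E2} {f : P3 F →* E2} (S : Sit H f) {g1 g2 qi qj : G3 F}
    (U : UQ g1 g2 qi qj) {ζ : KK} (hζ : IsPrimitiveRoot ζ 3)
    (h : Cfsg.Agent.H544.L34.PairZ (fg f g1) (fg f g2) V1 V2 ζ) : ∃ z, FsitA H f z ζ g1 g2 qi qj := by
  obtain ⟨i1, i2, j1, j2, i4, ji, ij, o1, o2, cc⟩ := U.rel f
  obtain ⟨z0, t1, t2, v1, v2⟩ := h
  obtain ⟨z, e1, e2, zi, zj, zm⟩ := Cfsg.Agent.H5.L34.frameQ hζ rfl rfl t1 t2 v1 v2 i1 i2 j1 j2 i4 ji ij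
  exact ⟨z, ⟨⟨S, U, hζ, by rw [e1]; exact t1, by rw [e2]; exact t2, by rw [e1]; exact v1, by rw [e2]; exact v2⟩,
    zi, zj, zm⟩⟩

/-- **type D, a fixed vector** -/
theorem endD_all (dnil : DNIL) (h20 : H20) (hF : Fintype.card F = 4) {H : Subgroup E2} {f : P3 F →* E2}
    {z : ↥(chevE8.group KK)} {ζ : KK} {g1 g2 qi qj : G3 F} (S : Fsit V3 H f z ζ g1 g2 qi qj)
    (h0 : fixAll (rho f) ≠ ⊥) : False :=
  Cfsg.Agent.H968.L34.endD_h3 dnil (trz_all h20) hF S (Cfsg.Agent.H968.L34.tr_three hF S) h0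

theorem main_zero (dnil : DNIL) (h20 : H20) (hfd : HFD) (hF : Fintype.card F = 4) (H : Subgroup E2)
    (f : P3 F →* E2) (S : Sit H f) : False := by
  obtain ⟨g1, g2, qi, qj, U⟩ := exists_uq hF
  obtain ⟨ζ, hζ⟩ := exists_zeta 3 (by decide)
  rcases types' hF S U hζ with h | h
  · obtain ⟨z, A⟩ := exists_A S U hζ h
    by_cases h0 : fixAll (rho f) = ⊥
    · exact killA hF A h0
    · exact endA A h0
  · obtain ⟨z, t1, t2, v1, v2⟩ := h
    have A : Fsit V3 H f z ζ g1 g2 qi qj := ⟨S, U, hζ, t1, t2, v1, v2⟩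
    by_cases h0 : fixAll (rho f) = ⊥
    · exact killD_of' dnil h20 hfd hF A h0
    · exact endD_all dnil h20 hF A h0

/-- **S5917** modulo the three inputs of type D -/
theorem main_of (dnil : DNIL) (h20 : H20) (hfd : HFD) {F : Type*} [Field F] [Fintype F] (hF : Fintype.card F = 4)
    (H : Subgroup E2)
    (hH : Nonempty (↥(generalizedFittingSubgroup ↥H) ≃* ProjectiveSpecialLinearGroup (Fin 3) F)) : ¬ IsCoatom H :=
  Cfsg.Agent.H888.L34.Model.main_of (fun hF H f S => main_zero dnil h20 hfd hF H f S) hF H hH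

end Cfsg.Agent.H939.L34
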